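import Cfsg.Agent.Lib.Trans3.Spider.Data.ZE.F0

set_option autoImplicit false
set_option maxRecDepth 100000

namespace CfsgLib.Trans3.Spider.ZE

open CfsgLib.InvChar.Coset

theorem facts_ok : ∀ j < 9, cert.chkRun 128 (j * 128) (cert.just.get j) = true := by
  intro j hj
  rcases Nat.lt_or_ge j 9 with h0 | h0
  · obtain ⟨i, rfl⟩ : ∃ i, j = 0 + i := ⟨j - 0, by omega⟩
    exact chkBlocks_get (D := cert) 9 0 chk_facts0 i (by omega)
  omega

/-- the goal word -/
def goal : List ℕ := [0, 1, 4, 6, 2, 5, 3, 0, 1, 4, 6, 2, 5, 3, 0, 1, 4, 6, 2, 5, 3, 0, 1, 4, 6, 2, 5, 3, 0, 1, 4, 6, 2, 5, 3, 0, 1, 4, 6, 2, 5, 3, 0, 1, 4, 6, 2, 5, 3, 0, 1, 4, 6, 2, 5, 3, 0, 1, 4, 6, 2, 5, 3]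

theorem goal_ok : cert.chkGoal 1068 63 0x1ba00000001c0001c200001001c400002001cb001cd001ca00004001d5001db0000a001e8001e9001ee001f000012002040001e0022100030002470004b0027a002930042b00295002960029400069000580025c00246002310002f0021e002110001d0001500010001ec001e6001e400006001d10000300002001c6001c7001c5001c800001001bf001be001c100000001b9001bc001bb001b8001b7 goal = true := by decide +kernel

theorem nf_le : cert.nf ≤ 9 * 128 := by decide +kernel

end CfsgLib.Trans3.Spider.ZE
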